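import Cfsg.Agent.Lib.GolayUnique.Rm

/-!
Structure of a self-dual doubly even binary code of length 24 without words of weight 4:
duality, restriction to small sets, words of weight 8, and the coordinates given by an octad:
the 16 points outside an octad are identified with the affine space of dimension 4.
-/

set_option autoImplicit false
set_option linter.unusedSectionVars false
set_option linter.style.haveILetI false

namespace Cfsg.Agent.Lib.GolayUnique.Dual

open Finset Module
open Cfsg.Agent.Lib.GolayUnique.Rm

section Words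

variable {ι : Type*} [Fintype ι] [DecidableEq ι]

/-- The indicator word of a finite set. -/
def ind (S : Finset ι) : ι → ZMod 2 := fun i => if i ∈ S then 1 else 0

/-- The support of a word. -/
def supp (w : ι → ZMod 2) : Finset ι := univ.filter (fun i => w i ≠ 0)

theorem card_supp (w : ι → ZMod 2) : (supp w).card = hammingNorm w := rfl

theorem mem_supp {w : ι → ZMod 2} {i : ι} : i ∈ supp w ↔ w i = 1 := by
  simp only [supp, mem_filter, mem_univ, true_and]
  generalize w i = a
  revert a
  decide

theorem eq_zero_or_one (a : ZMod 2) : a = 0 ∨ a = 1 := by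
  revert a; decide

theorem ne_one_iff {a : ZMod 2} : a ≠ 1 ↔ a = 0 := by
  revert a; decide

theorem notMem_supp {w : ι → ZMod 2} {i : ι} : i ∉ supp w ↔ w i = 0 := by
  rw [mem_supp]
  exact ne_one_iff

theorem ind_supp (w : ι → ZMod 2) : ind (supp w) = w := by
  funext i
  by_cases h : i ∈ supp w
  · rw [ind, if_pos h, mem_supp.mp h]
  · rw [ind, if_neg h, notMem_supp.mp h]

theorem supp_ind (S : Finset ι) : supp (ind S) = S := by
  ext i
  rw [mem_supp, ind]
  by_cases h : i ∈ S <;> simp [h]

theorem add_self_word (a : ZMod 2) : a + a = 0 := CharTwo.add_self_eq_zero a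

theorem wt_add (v w : ι → ZMod 2) :
    hammingNorm (v + w) + 2 * (supp v ∩ supp w).card = hammingNorm v + hammingNorm w := by
  have h : supp (v + w) = symmDiff (supp v) (supp w) := by
    ext i
    rw [mem_supp, Finset.mem_symmDiff, mem_supp, mem_supp, Pi.add_apply]
    generalize v i = a
    generalize w i = b
    revert a b
    decide
  rw [← card_supp (v + w), ← card_supp v, ← card_supp w, h,
    show symmDiff (supp v) (supp w) = (supp v \ supp w) ∪ (supp w \ supp v) from rfl,
    card_union_of_disjoint disjoint_sdiff_sdiff]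
  have h1 := card_sdiff_add_card_inter (supp v) (supp w)
  have h2 := card_sdiff_add_card_inter (supp w) (supp v)
  rw [inter_comm] at h2
  omega

theorem dot_eq_card (v w : ι → ZMod 2) :
    ∑ i, v i * w i = (((supp v ∩ supp w).card : ℕ) : ZMod 2) := by
  have h1 : ∀ i, v i * w i = if i ∈ supp v ∩ supp w then 1 else 0 := by
    intro i
    simp only [mem_inter, mem_supp]
    generalize v i = a
    generalize w i = b
    revert a b
    decide
  rw [sum_congr rfl (fun i _ => h1 i), sum_boole]
  congr 2
  ext x
  simp

theorem dot_one (w : ι → ZMod 2) : ∑ i, (1 : ι → ZMod 2) i * w i = ((hammingNorm w : ℕ) : ZMod 2) := by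
  have h1 : ∀ i, (1 : ι → ZMod 2) i * w i = if i ∈ supp w then 1 else 0 := by
    intro i
    simp only [mem_supp, Pi.one_apply, one_mul]
    generalize w i = a
    revert a
    decide
  rw [sum_congr rfl (fun i _ => h1 i), sum_boole, ← card_supp w, Finset.filter_mem_eq_inter, univ_inter]

theorem dot_ind (S : Finset ι) (w : ι → ZMod 2) : ∑ i, ind S i * w i = ∑ i ∈ S, w i := by
  have h1 : ∀ i, ind S i * w i = if i ∈ S then w i else 0 := by
    intro i
    unfold ind
    by_cases h : i ∈ S <;> simp [h]
  rw [sum_congr rfl (fun i _ => h1 i), sum_ite_mem, univ_inter]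

theorem exists_not_mem_span {V : Type*} [AddCommGroup V] [Module (ZMod 2) V]
    {D : Submodule (ZMod 2) V} [FiniteDimensional (ZMod 2) D]
    {s : Finset V} (hlt : s.card < finrank (ZMod 2) D) :
    ∃ d ∈ D, d ∉ Submodule.span (ZMod 2) (s : Set V) := by
  by_contra hcon
  push Not at hcon
  have hle : D ≤ Submodule.span (ZMod 2) (s : Set V) := hcon
  have h1 : finrank (ZMod 2) D ≤ finrank (ZMod 2) (Submodule.span (ZMod 2) (s : Set V)) :=
    Submodule.finrank_mono hle
  have h2 := finrank_span_finset_le_card (R := ZMod 2) s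
  unfold Set.finrank at h2
  omega

end Words

section Code

variable {ι : Type*} [Fintype ι] [DecidableEq ι]

/-- A binary code with the parameters of the Golay code. -/
structure GolayLike (C : Submodule (ZMod 2) (ι → ZMod 2)) : Prop where
  card : Fintype.card ι = 24
  dim : finrank (ZMod 2) C = 12
  orth : ∀ v ∈ C, ∀ w ∈ C, ∑ i, v i * w i = 0
  four : ∀ w ∈ C, 4 ∣ hammingNorm w
  no4 : ∀ w ∈ C, hammingNorm w ≠ 4

variable {C : Submodule (ZMod 2) (ι → ZMod 2)}

theorem GolayLike.eight_le (hC : GolayLike C) {w : ι → ZMod 2} (hw : w ∈ C) (h0 : w ≠ 0) :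
    8 ≤ hammingNorm w := by
  have h1 := hC.four w hw
  have h2 := hC.no4 w hw
  have h3 : hammingNorm w ≠ 0 := by
    rwa [Ne, hammingNorm_eq_zero]
  omega

/-- A self-orthogonal code of half the length is self-dual. -/
theorem GolayLike.mem_of_orth (hC : GolayLike C) {v : ι → ZMod 2}
    (hv : ∀ w ∈ C, ∑ i, v i * w i = 0) : v ∈ C := by
  let φ := dotProductEquiv (ZMod 2) ι
  let A : Submodule (ZMod 2) (ι → ZMod 2) := C.dualAnnihilator.comap φ.toLinearMap
  have hdim : finrank (ZMod 2) A = finrank (ZMod 2) C.dualAnnihilator :=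
    LinearEquiv.finrank_eq (φ.ofSubmodule' C.dualAnnihilator)
  have hann := Subspace.finrank_add_finrank_dualAnnihilator_eq C
  have hfull : finrank (ZMod 2) (ι → ZMod 2) = 24 := by
    rw [finrank_fintype_fun_eq_card, hC.card]
  have hA : finrank (ZMod 2) A = 12 := by
    rw [hdim]
    rw [hfull, hC.dim] at hann
    omega
  have hmem : ∀ x, x ∈ A ↔ ∀ w ∈ C, ∑ i, x i * w i = 0 := by
    intro x
    simp only [A, Submodule.mem_comap, Submodule.mem_dualAnnihilator]
    rfl
  have hCA : C ≤ A := by
    intro x hx
    rw [hmem]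
    exact fun w hw => hC.orth x hx w hw
  have heq : C = A := Submodule.eq_of_le_of_finrank_eq hCA (by rw [hC.dim, hA])
  rw [heq, hmem]
  exact hv

theorem GolayLike.one_mem (hC : GolayLike C) : (1 : ι → ZMod 2) ∈ C := by
  apply hC.mem_of_orth
  intro w hw
  rw [dot_one]
  obtain ⟨k, hk⟩ := hC.four w hw
  rw [hk]
  push_cast
  rw [show (4 : ZMod 2) = 0 from rfl, zero_mul]

/-- The restriction to a set carrying no nonzero word is surjective. -/
theorem GolayLike.exists_restrict (hC : GolayLike C) (T : Finset ι)
    (hT : ∀ w ∈ C, (∀ i, i ∉ T → w i = 0) → w = 0) (g : ι → ZMod 2) :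
    ∃ c ∈ C, ∀ t ∈ T, c t = g t := by
  classical
  let R : (ι → ZMod 2) →ₗ[ZMod 2] (T → ZMod 2) := LinearMap.funLeft (ZMod 2) (ZMod 2) Subtype.val
  let U : Submodule (ZMod 2) (T → ZMod 2) := C.map R
  have hU : U = ⊤ := by
    by_contra hne
    obtain ⟨f, hf0, hf⟩ := Submodule.exists_le_ker_of_lt_top U (lt_top_iff_ne_top.mpr hne)
    let v : ι → ZMod 2 := fun i => if h : i ∈ T then f (Pi.single ⟨i, h⟩ 1) else 0
    have hdot : ∀ w ∈ C, ∑ i, v i * w i = 0 := by
      intro w hw
      have h1 : f (R w) = 0 := hf (Submodule.mem_map_of_mem hw)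
      have h2 : R w = ∑ t : T, (w t) • (Pi.single t 1 : T → ZMod 2) := by
        funext t
        simp [R, LinearMap.funLeft_apply, Finset.sum_apply, Pi.single_apply]
      rw [h2, map_sum] at h1
      simp only [map_smul, smul_eq_mul] at h1
      have h3 : ∑ i, v i * w i = ∑ t : T, w t * f (Pi.single t 1) := by
        have h4 : ∀ i, v i * w i = if i ∈ T then v i * w i else 0 := by
          intro i
          by_cases h : i ∈ T
          · rw [if_pos h]
          · simp [h, v]
        rw [sum_congr rfl (fun i _ => h4 i), sum_ite_mem, univ_inter, ← sum_coe_sort]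
        apply sum_congr rfl
        rintro ⟨t, ht⟩ _
        simp [v, ht, mul_comm]
      rw [h3]
      exact h1
    have hvC := hC.mem_of_orth hdot
    have hv0 : v = 0 := hT v hvC (by
      intro i hi
      simp [v, hi])
    apply hf0
    apply LinearMap.pi_ext'
    intro t
    ext
    have := congrFun hv0 t
    simpa [v, t.2] using this
  have hg : R g ∈ U := by rw [hU]; trivial
  obtain ⟨c, hc, hcg⟩ := hg
  refine ⟨c, hc, fun t ht => ?_⟩
  have := congrFun hcg ⟨t, ht⟩
  simpa [R, LinearMap.funLeft_apply] using this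

/-- The words of `C` vanishing on `T`. -/
def vanish (C : Submodule (ZMod 2) (ι → ZMod 2)) (T : Finset ι) : Submodule (ZMod 2) (ι → ZMod 2) :=
  C ⊓ LinearMap.ker (LinearMap.funLeft (ZMod 2) (ZMod 2) (Subtype.val : T → ι))

theorem mem_vanish {T : Finset ι} {w : ι → ZMod 2} :
    w ∈ vanish C T ↔ w ∈ C ∧ ∀ t ∈ T, w t = 0 := by
  simp only [vanish, Submodule.mem_inf, LinearMap.mem_ker]
  refine and_congr_right fun _ => ?_
  constructor
  · intro h t ht
    have := congrFun h ⟨t, ht⟩
    simpa [LinearMap.funLeft_apply] using this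
  · intro h
    funext t
    simpa [LinearMap.funLeft_apply] using h t t.2

/-- The subspace of the words vanishing on `T` has codimension at most `|T|`. -/
theorem finrank_vanish (T : Finset ι) :
    finrank (ZMod 2) C ≤ finrank (ZMod 2) (vanish C T) + T.card := by
  let R : (ι → ZMod 2) →ₗ[ZMod 2] (T → ZMod 2) := LinearMap.funLeft (ZMod 2) (ZMod 2) Subtype.val
  let R' : C →ₗ[ZMod 2] (T → ZMod 2) := R.domRestrict C
  have h1 := LinearMap.finrank_range_add_finrank_ker R'
  have h2 : finrank (ZMod 2) (LinearMap.range R') ≤ T.card := by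
    have := Submodule.finrank_le (LinearMap.range R')
    rwa [finrank_fintype_fun_eq_card, Fintype.card_coe] at this
  have h3 : finrank (ZMod 2) (LinearMap.ker R') ≤ finrank (ZMod 2) (vanish C T) := by
    let ψ : LinearMap.ker R' →ₗ[ZMod 2] vanish C T :=
      { toFun := fun x => ⟨x.1.1, by
          rw [vanish, Submodule.mem_inf]
          refine ⟨x.1.2, ?_⟩
          have := x.2
          rw [LinearMap.mem_ker] at this ⊢
          exact this⟩
        map_add' := fun _ _ => rfl
        map_smul' := fun _ _ => rfl }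
    apply LinearMap.finrank_le_finrank_of_injective (f := ψ)
    intro x y hxy
    have : x.1.1 = y.1.1 := congrArg (fun z => z.1) hxy
    exact Subtype.ext (Subtype.ext this)
  omega

end Code

end Cfsg.Agent.Lib.GolayUnique.Dual
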