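import Cfsg.Agent.Lib.GolayUnique.Star
import Cfsg.Agent.Lib.Golay.Core

/-!
The code built from the squares modulo 23 in the coordinates given by one of its octads.
-/

set_option autoImplicit false
set_option linter.unusedSectionVars false

namespace Cfsg.Agent.Lib.GolayUnique.Model

open Finset Module Cfsg
open Cfsg.Agent.Lib.GolayUnique.Rm Cfsg.Agent.Lib.GolayUnique.Star
open Cfsg.Agent.Lib.Golay.Core (wordOf pt genMask qrMask)

/-- The numbers of the points of the octad and the points outside. -/
def tbl8 : List ℕ := [0, 2, 3, 5, 6, 7, 8, 18]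

/-- The numbers of the points outside the octad. -/
def tbl16 : List ℕ := [23, 17, 12, 19, 13, 16, 4, 20, 14, 1, 21, 11, 9, 10, 22, 15]

/-- The labelling of the 24 points. -/
def mF : Pt → GolayPt :=
  Sum.elim (fun i => pt (tbl8.getD i 0)) (fun n => pt (tbl16.getD n 0))

theorem mF_inj : ∀ x y : Pt, mF x = mF y → x = y := by
  decide +kernel

theorem mF_bij : Function.Bijective mF := by
  rw [Fintype.bijective_iff_injective_and_card]
  refine ⟨fun x y h => mF_inj x y h, ?_⟩
  rw [Cfsg.Agent.Lib.Golay.Core.card_golayPt]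
  simp

/-- The labelling as a bijection. -/
noncomputable def mE : Pt ≃ GolayPt := Equiv.ofBijective mF mF_bij

/-- The affine part of the generators. -/
def alphaT : List ℕ := [6, 13, 8, 2, 7, 13, 10, 4, 11, 7, 14, 15, 14, 13, 9, 1, 1, 3, 4, 10, 4, 8, 3, 16]

/-- The generators in the coordinates of the model. -/
theorem gen_form : ∀ j < 24, ∀ p : Pt, wordOf (genMask j) (mF p) =
    ∑ i : Fin 7, wordOf (genMask j) (mF (Sum.inl i.castSucc)) * Bw i.castSucc (Fin.last 7) p
      + affW (alphaT.getD j 0) p := by
  decide +kernel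

end Cfsg.Agent.Lib.GolayUnique.Model
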