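import Cfsg.Agent.Lib.GolayUnique.Dual

/-!
A code with the parameters of the Golay code has an octad, and the 16 points outside an octad can be
labelled so that the affine functions are in the code.
-/

set_option autoImplicit false
set_option linter.unusedSectionVars false
set_option linter.style.haveILetI false

namespace Cfsg.Agent.Lib.GolayUnique.Octad

open Finset Module
open Cfsg.Agent.Lib.GolayUnique.Rm Cfsg.Agent.Lib.GolayUnique.Dual

/-- The character of the group of order 16. -/
def chi (a n : ℕ) : ZMod 2 :=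
  bitF 0 a * bitF 0 n + bitF 1 a * bitF 1 n + bitF 2 a * bitF 2 n + bitF 3 a * bitF 3 n

/-- The sign of the character. -/
def sgn (a n : Fin 16) : ℤ := if chi a n = 1 then -1 else 1

theorem sgn_orth : ∀ m n : Fin 16, ∑ a, sgn a m * sgn a n = if n = m then 16 else 0 := by
  decide +kernel

theorem sgn_zero : ∀ m : Fin 16, sgn 0 m = 1 := by decide +kernel

theorem fourier16 (c : Fin 16 → ℤ) (h0 : ∑ n, c n = 16)
    (h : ∀ a : Fin 16, a ≠ 0 → ∑ n, sgn a n * c n = 0) (m : Fin 16) : c m = 1 := by
  have h1 : ∑ a, sgn a m * ∑ n, sgn a n * c n = 16 := by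
    rw [← Finset.add_sum_erase univ _ (mem_univ (0 : Fin 16))]
    have h2 : ∑ a ∈ univ.erase (0 : Fin 16), sgn a m * ∑ n, sgn a n * c n = 0 := by
      apply sum_eq_zero
      intro a ha
      rw [h a (ne_of_mem_erase ha), mul_zero]
    rw [h2, add_zero, sgn_zero]
    simp only [sgn_zero, one_mul]
    exact h0
  have h3 : ∑ a, sgn a m * ∑ n, sgn a n * c n = 16 * c m := by
    simp only [mul_sum]
    rw [sum_comm]
    have h4 : ∀ n, ∑ a, sgn a m * (sgn a n * c n) = (if n = m then 16 else 0) * c n := by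
      intro n
      rw [← sgn_orth m n, sum_mul]
      exact sum_congr rfl (fun a _ => by ring)
    rw [sum_congr rfl (fun n _ => h4 n)]
    simp
  rw [h3] at h1
  omega

/-- The code of four bits. -/
theorem code4 : ∀ v0 v1 v2 v3 : ZMod 2,
    v0.val + 2 * v1.val + 4 * v2.val + 8 * v3.val < 16 ∧
    bitF 0 (v0.val + 2 * v1.val + 4 * v2.val + 8 * v3.val) = v0 ∧
    bitF 1 (v0.val + 2 * v1.val + 4 * v2.val + 8 * v3.val) = v1 ∧
    bitF 2 (v0.val + 2 * v1.val + 4 * v2.val + 8 * v3.val) = v2 ∧
    bitF 3 (v0.val + 2 * v1.val + 4 * v2.val + 8 * v3.val) = v3 := by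
  decide +kernel

theorem bits_zero : ∀ a : Fin 16, bitF 0 a = 0 → bitF 1 a = 0 → bitF 2 a = 0 → bitF 3 a = 0 → a = 0 := by
  decide +kernel

/-- The number with the four given bits. -/
def mk4 (v0 v1 v2 v3 : ZMod 2) : Fin 16 :=
  ⟨v0.val + 2 * v1.val + 4 * v2.val + 8 * v3.val, (code4 v0 v1 v2 v3).1⟩

section Code

variable {ι : Type*} [Fintype ι] [DecidableEq ι]
variable {C : Submodule (ZMod 2) (ι → ZMod 2)}

theorem char2_solve (x d e : ι → ZMod 2) (h : x + d = e) : d = e + x := by
  funext i
  have := congrFun h i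
  simp only [Pi.add_apply] at this ⊢
  rw [← this]
  generalize x i = a
  generalize d i = b
  revert a b
  decide

theorem exists_octad (hC : GolayLike C) : ∃ O : Finset ι, O.card = 8 ∧ ind O ∈ C := by
  obtain ⟨T, -, hT⟩ : ∃ T ⊆ (univ : Finset ι), T.card = 10 :=
    exists_subset_card_eq (by rw [card_univ, hC.card]; norm_num)
  have hZ := finrank_vanish (C := C) T
  rw [hC.dim, hT] at hZ
  have hzero : (∅ : Finset (ι → ZMod 2)).card < finrank (ZMod 2) (vanish C T) := by
    rw [card_empty]; omega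
  obtain ⟨w1, hw1, hw1s⟩ := exists_not_mem_span hzero
  have hone : ({w1} : Finset (ι → ZMod 2)).card < finrank (ZMod 2) (vanish C T) := by
    rw [card_singleton]; omega
  obtain ⟨w2, hw2, hw2s⟩ := exists_not_mem_span hone
  have hw10 : w1 ≠ 0 := by
    rintro rfl
    exact hw1s (Submodule.zero_mem _)
  have hw20 : w2 ≠ 0 := by
    rintro rfl
    exact hw2s (Submodule.zero_mem _)
  have hw12 : w1 + w2 ≠ 0 := by
    intro h
    have : w2 = w1 := by
      have := char2_solve w1 w2 0 h
      simpa using this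
    apply hw2s
    rw [this]
    exact Submodule.subset_span (by simp)
  have hle : ∀ w ∈ vanish C T, supp w ⊆ Tᶜ := by
    intro w hw i hi
    rw [mem_compl]
    intro hiT
    have := (mem_vanish.mp hw).2 i hiT
    rw [mem_supp, this] at hi
    exact zero_ne_one hi
  have hTc : (Tᶜ : Finset ι).card = 14 := by
    rw [card_compl, hC.card, hT]
  have hwt : ∀ w ∈ vanish C T, w ≠ 0 → hammingNorm w = 8 ∨ hammingNorm w = 12 := by
    intro w hw hw0
    have h1 := hC.eight_le (mem_vanish.mp hw).1 hw0
    have h2 := hC.four w (mem_vanish.mp hw).1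
    have h3 : hammingNorm w ≤ 14 := by
      rw [← card_supp, ← hTc]
      exact card_le_card (hle w hw)
    omega
  have hoct : ∀ w ∈ vanish C T, hammingNorm w = 8 → ∃ O : Finset ι, O.card = 8 ∧ ind O ∈ C := by
    intro w hw h8
    refine ⟨supp w, by rw [card_supp, h8], ?_⟩
    rw [ind_supp]
    exact (mem_vanish.mp hw).1
  rcases hwt w1 hw1 hw10 with h1 | h1
  · exact hoct w1 hw1 h1
  rcases hwt w2 hw2 hw20 with h2 | h2
  · exact hoct w2 hw2 h2
  rcases hwt (w1 + w2) (Submodule.add_mem _ hw1 hw2) hw12 with h3 | h3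
  · exact hoct _ (Submodule.add_mem _ hw1 hw2) h3
  exfalso
  have h4 := wt_add w1 w2
  rw [h1, h2, h3] at h4
  have h5 : (supp w1 ∪ supp w2).card ≤ 14 := by
    rw [← hTc]
    exact card_le_card (union_subset (hle _ hw1) (hle _ hw2))
  have h6 := card_union_add_card_inter (supp w1) (supp w2)
  rw [card_supp, card_supp, h1, h2] at h6
  omega

/-- The coordinates given by an octad. -/
theorem exists_coords (hC : GolayLike C) :
    ∃ L : Fin 8 ⊕ Fin 16 ≃ ι,
      (fun i => Sum.elim (fun _ => (0 : ZMod 2)) (fun _ => 1) (L.symm i)) ∈ C ∧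
      ∀ k < 4, (fun i => Sum.elim (fun _ => (0 : ZMod 2)) (fun n : Fin 16 => bitF k n) (L.symm i)) ∈ C := by
  classical
  obtain ⟨O, hO, hOC⟩ := exists_octad hC
  have hOc : (Oᶜ : Finset ι).card = 16 := by
    rw [card_compl, hC.card, hO]
  -- `D`: the words vanishing on the octad
  set D := vanish C O with hDdef
  have hsum : ∀ w ∈ C, ∑ i ∈ O, w i = 0 := by
    intro w hw
    rw [← dot_ind]
    exact hC.orth _ hOC _ hw
  have hDdim : 5 ≤ finrank (ZMod 2) D := by
    obtain ⟨z, hz⟩ : O.Nonempty := by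
      rw [← card_pos, hO]; norm_num
    have h1 := finrank_vanish (C := C) (O.erase z)
    rw [hC.dim, card_erase_of_mem hz, hO] at h1
    have h2 : vanish C (O.erase z) ≤ D := by
      intro w hw
      rw [mem_vanish] at hw
      rw [hDdef, mem_vanish]
      refine ⟨hw.1, fun t ht => ?_⟩
      have h3 := hsum w hw.1
      rw [← add_sum_erase O _ hz, sum_eq_zero (fun i hi => hw.2 i hi), add_zero] at h3
      by_cases htz : t = z
      · rw [htz, h3]
      · exact hw.2 t (mem_erase.mpr ⟨htz, ht⟩)
    have h3 := Submodule.finrank_mono h2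
    omega
  -- the all one word on the complement
  have hu0eq : ind Oᶜ = 1 + ind O := by
    funext i
    simp only [ind, Pi.add_apply, Pi.one_apply, mem_compl]
    by_cases h : i ∈ O <;> simp [h]
    rfl
  have hu0C : ind Oᶜ ∈ C := by
    rw [hu0eq]
    exact Submodule.add_mem _ hC.one_mem hOC
  have hu0D : ind Oᶜ ∈ D := by
    rw [hDdef, mem_vanish]
    refine ⟨hu0C, fun t ht => ?_⟩
    simp [ind, ht]
  -- weights in `D`
  have hsuppD : ∀ w ∈ D, supp w ⊆ Oᶜ := by
    intro w hw i hi
    rw [mem_compl]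
    intro hiO
    have := (mem_vanish.mp hw).2 i hiO
    rw [mem_supp, this] at hi
    exact zero_ne_one hi
  have hwtD : ∀ w ∈ D, w ≠ 0 → w ≠ ind Oᶜ → hammingNorm w = 8 := by
    intro w hw hw0 hwu
    have hwC := (mem_vanish.mp hw).1
    have h1 := hC.eight_le hwC hw0
    have h2 := hC.four w hwC
    have h3 : hammingNorm w ≤ 16 := by
      rw [← card_supp, ← hOc]
      exact card_le_card (hsuppD w hw)
    have h16 : hammingNorm w ≠ 16 := by
      intro h
      apply hwu
      have : supp w = Oᶜ := eq_of_subset_of_card_le (hsuppD w hw) (by rw [hOc, card_supp, h])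
      rw [← this, ind_supp]
    have h12 : hammingNorm w ≠ 12 := by
      intro h
      have h4 := wt_add w (ind Oᶜ)
      rw [supp_ind, inter_eq_left.mpr (hsuppD w hw), card_supp, h, ← card_supp (ind Oᶜ), supp_ind,
        hOc] at h4
      exact hC.no4 _ (Submodule.add_mem _ hwC hu0C) (by omega)
    omega
  -- the choice of the four words
  obtain ⟨d0, hd0, hd0s⟩ := exists_not_mem_span (D := D) (s := {ind Oᶜ}) (by
    rw [card_singleton]; omega)
  obtain ⟨d1, hd1, hd1s⟩ := exists_not_mem_span (D := D) (s := {ind Oᶜ, d0}) (by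
    have := card_le_two (a := ind Oᶜ) (b := d0); omega)
  obtain ⟨d2, hd2, hd2s⟩ := exists_not_mem_span (D := D) (s := {ind Oᶜ, d0, d1}) (by
    have := card_le_three (a := ind Oᶜ) (b := d0) (c := d1); omega)
  obtain ⟨d3, hd3, hd3s⟩ := exists_not_mem_span (D := D) (s := {ind Oᶜ, d0, d1, d2}) (by
    have := card_le_four (a := ind Oᶜ) (b := d0) (c := d1) (d := d2); omega)
  -- independence
  have hind : ∀ a0 a1 a2 a3 e : ZMod 2, a0 • d0 + a1 • d1 + a2 • d2 + a3 • d3 = e • ind Oᶜ →
      a0 = 0 ∧ a1 = 0 ∧ a2 = 0 ∧ a3 = 0 := by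
    intro a0 a1 a2 a3 e h
    have hmem0 : ∀ x : ι → ZMod 2, x = e • ind Oᶜ → x ∈ Submodule.span (ZMod 2)
        ((({ind Oᶜ} : Finset (ι → ZMod 2))) : Set (ι → ZMod 2)) := by
      rintro x rfl
      exact Submodule.smul_mem _ _ (Submodule.subset_span (by simp))
    have hmem1 : ∀ x : ι → ZMod 2, x = e • ind Oᶜ + a0 • d0 → x ∈ Submodule.span (ZMod 2)
        ((({ind Oᶜ, d0} : Finset (ι → ZMod 2))) : Set (ι → ZMod 2)) := by
      rintro x rfl
      exact Submodule.add_mem _ (Submodule.smul_mem _ _ (Submodule.subset_span (by simp)))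
        (Submodule.smul_mem _ _ (Submodule.subset_span (by simp)))
    have hmem2 : ∀ x : ι → ZMod 2, x = e • ind Oᶜ + (a0 • d0 + a1 • d1) → x ∈ Submodule.span (ZMod 2)
        ((({ind Oᶜ, d0, d1} : Finset (ι → ZMod 2))) : Set (ι → ZMod 2)) := by
      rintro x rfl
      exact Submodule.add_mem _ (Submodule.smul_mem _ _ (Submodule.subset_span (by simp)))
        (Submodule.add_mem _ (Submodule.smul_mem _ _ (Submodule.subset_span (by simp)))
        (Submodule.smul_mem _ _ (Submodule.subset_span (by simp))))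
    have hmem3 : ∀ x : ι → ZMod 2, x = e • ind Oᶜ + (a0 • d0 + a1 • d1 + a2 • d2) →
        x ∈ Submodule.span (ZMod 2)
        ((({ind Oᶜ, d0, d1, d2} : Finset (ι → ZMod 2))) : Set (ι → ZMod 2)) := by
      rintro x rfl
      exact Submodule.add_mem _ (Submodule.smul_mem _ _ (Submodule.subset_span (by simp)))
        (Submodule.add_mem _ (Submodule.add_mem _
          (Submodule.smul_mem _ _ (Submodule.subset_span (by simp)))
          (Submodule.smul_mem _ _ (Submodule.subset_span (by simp))))
        (Submodule.smul_mem _ _ (Submodule.subset_span (by simp))))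
    have h3 : a3 = 0 := by
      rcases eq_zero_or_one a3 with h' | h'
      · exact h'
      · exfalso
        apply hd3s
        apply hmem3
        rw [h', one_smul] at h
        exact char2_solve _ _ _ h
    subst h3
    rw [zero_smul, add_zero] at h
    have h2 : a2 = 0 := by
      rcases eq_zero_or_one a2 with h' | h'
      · exact h'
      · exfalso
        apply hd2s
        apply hmem2
        rw [h', one_smul] at h
        exact char2_solve _ _ _ h
    subst h2
    rw [zero_smul, add_zero] at h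
    have h1 : a1 = 0 := by
      rcases eq_zero_or_one a1 with h' | h'
      · exact h'
      · exfalso
        apply hd1s
        apply hmem1
        rw [h', one_smul] at h
        exact char2_solve _ _ _ h
    subst h1
    rw [zero_smul, add_zero] at h
    have h0 : a0 = 0 := by
      rcases eq_zero_or_one a0 with h' | h'
      · exact h'
      · exfalso
        apply hd0s
        apply hmem0
        rw [h', one_smul] at h
        exact h
    exact ⟨h0, rfl, rfl, rfl⟩
  -- the combinations
  let u : Fin 16 → ι → ZMod 2 := fun a =>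
    bitF 0 a • d0 + bitF 1 a • d1 + bitF 2 a • d2 + bitF 3 a • d3
  have huD : ∀ a, u a ∈ D := fun a =>
    Submodule.add_mem _ (Submodule.add_mem _ (Submodule.add_mem _
      (Submodule.smul_mem _ _ hd0) (Submodule.smul_mem _ _ hd1)) (Submodule.smul_mem _ _ hd2))
      (Submodule.smul_mem _ _ hd3)
  have huwt : ∀ a, a ≠ 0 → hammingNorm (u a) = 8 := by
    intro a ha
    apply hwtD _ (huD a)
    · intro h
      obtain ⟨h0, h1, h2, h3⟩ := hind _ _ _ _ 0 (h.trans (by simp))
      exact ha (bits_zero a h0 h1 h2 h3)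
    · intro h
      obtain ⟨h0, h1, h2, h3⟩ := hind _ _ _ _ 1 (h.trans (by simp))
      exact ha (bits_zero a h0 h1 h2 h3)
  -- the labels
  let lab : ι → Fin 16 := fun p => mk4 (d0 p) (d1 p) (d2 p) (d3 p)
  have hlab0 : ∀ p, bitF 0 (lab p) = d0 p := fun p => (code4 _ _ _ _).2.1
  have hlab1 : ∀ p, bitF 1 (lab p) = d1 p := fun p => (code4 _ _ _ _).2.2.1
  have hlab2 : ∀ p, bitF 2 (lab p) = d2 p := fun p => (code4 _ _ _ _).2.2.2.1
  have hlab3 : ∀ p, bitF 3 (lab p) = d3 p := fun p => (code4 _ _ _ _).2.2.2.2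
  have hchi : ∀ (a : Fin 16) p, chi a (lab p) = u a p := by
    intro a p
    simp only [chi, hlab0, hlab1, hlab2, hlab3, u, Pi.add_apply, Pi.smul_apply, smul_eq_mul]
  let c : Fin 16 → ℤ := fun n => (((Oᶜ).filter (fun p => lab p = n)).card : ℤ)
  have hc0 : ∑ n, c n = 16 := by
    have := card_eq_sum_card_fiberwise (f := lab) (s := Oᶜ) (t := univ) (fun _ _ => by simp)
    rw [hOc] at this
    simp only [c]
    exact_mod_cast this.symm
  have hc : ∀ a : Fin 16, a ≠ 0 → ∑ n, sgn a n * c n = 0 := by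
    intro a ha
    have h1 : ∀ n, sgn a n * c n = ∑ p ∈ (Oᶜ).filter (fun p => lab p = n), sgn a (lab p) := by
      intro n
      have : ∀ p ∈ (Oᶜ).filter (fun p => lab p = n), sgn a (lab p) = sgn a n := by
        intro p hp
        rw [(mem_filter.mp hp).2]
      rw [sum_congr rfl this, sum_const, nsmul_eq_mul, mul_comm]
    rw [sum_congr rfl (fun n _ => h1 n), sum_fiberwise]
    have h2 : ∀ p ∈ Oᶜ, sgn a (lab p) = 1 - 2 * (if p ∈ supp (u a) then 1 else 0) := by
      intro p _
      unfold sgn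
      rw [hchi]
      by_cases hp : p ∈ supp (u a)
      · rw [if_pos hp, if_pos (mem_supp.mp hp)]; norm_num
      · rw [if_neg hp, if_neg (fun h => hp (mem_supp.mpr h))]; norm_num
    rw [sum_congr rfl h2, sum_sub_distrib, ← mul_sum, sum_boole, sum_const, nsmul_eq_mul]
    have h3 : (Oᶜ).filter (fun p => p ∈ supp (u a)) = supp (u a) := by
      rw [Finset.filter_mem_eq_inter]
      exact inter_eq_right.mpr (hsuppD _ (huD a))
    rw [h3, card_supp, huwt a ha, hOc]
    norm_num
  have hc1 := fourier16 c hc0 hc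
  -- the points
  have hex : ∀ n : Fin 16, ∃ p, p ∈ Oᶜ ∧ lab p = n := by
    intro n
    have h1 := hc1 n
    have h2 : ((Oᶜ).filter (fun p => lab p = n)).card = 1 := by
      simp only [c] at h1
      exact_mod_cast h1
    obtain ⟨p, hp⟩ := card_eq_one.mp h2
    have : p ∈ (Oᶜ).filter (fun p => lab p = n) := by rw [hp]; simp
    exact ⟨p, (mem_filter.mp this).1, (mem_filter.mp this).2⟩
  have huniq : ∀ p ∈ Oᶜ, ∀ p' ∈ Oᶜ, lab p = lab p' → p = p' := by
    intro p hp p' hp' h
    have h1 := hc1 (lab p)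
    have h2 : ((Oᶜ).filter (fun x => lab x = lab p)).card = 1 := by
      simp only [c] at h1
      exact_mod_cast h1
    exact card_le_one.mp h2.le p (by simp [hp]) p' (by simp [hp', h])
  choose pt hptO hptlab using hex
  -- the labelling
  let eO := O.equivFinOfCardEq hO
  let lbl : Fin 8 ⊕ Fin 16 → ι := Sum.elim (fun i => (eO.symm i : ι)) pt
  have hsurj : Function.Surjective lbl := by
    intro p
    by_cases hp : p ∈ O
    · refine ⟨Sum.inl (eO ⟨p, hp⟩), ?_⟩
      simp [lbl]
    · refine ⟨Sum.inr (lab p), ?_⟩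
      simp only [lbl, Sum.elim_inr]
      exact huniq _ (hptO _) _ (mem_compl.mpr hp) (hptlab _)
  have hbij : Function.Bijective lbl := by
    rw [Fintype.bijective_iff_surjective_and_card]
    refine ⟨hsurj, ?_⟩
    rw [hC.card]
    simp
  let L : Fin 8 ⊕ Fin 16 ≃ ι := Equiv.ofBijective lbl hbij
  have hLinl : ∀ i, L (Sum.inl i) ∈ O := by
    intro i
    exact (eO.symm i).2
  have hLinr : ∀ n, L (Sum.inr n) = pt n := fun n => rfl
  have hw : ∀ (w : ι → ZMod 2) (g : Fin 16 → ZMod 2), (∀ t ∈ O, w t = 0) → (∀ n, w (pt n) = g n) →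
      (fun i => Sum.elim (fun _ => (0 : ZMod 2)) g (L.symm i)) = w := by
    intro w g h1 h2
    funext i
    obtain ⟨x, rfl⟩ := L.surjective i
    rw [Equiv.symm_apply_apply]
    cases x with
    | inl i => exact (h1 _ (hLinl i)).symm
    | inr n => exact (h2 n).symm
  refine ⟨L, ?_, ?_⟩
  · rw [hw (ind Oᶜ) (fun _ => 1) (fun t ht => by simp [ind, ht]) (fun n => by
      have := hptO n
      simp [ind, mem_compl.mp this])]
    exact hu0C
  · intro k hk
    have hd : ∀ (w : ι → ZMod 2), w ∈ D → (∀ p, bitF k (lab p) = w p) →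
        (fun i => Sum.elim (fun _ => (0 : ZMod 2)) (fun n : Fin 16 => bitF k n) (L.symm i)) ∈ C := by
      intro w hwD h
      rw [hw w _ (mem_vanish.mp hwD).2 (fun n => by rw [← h, hptlab])]
      exact (mem_vanish.mp hwD).1
    interval_cases k
    · exact hd d0 hd0 hlab0
    · exact hd d1 hd1 hlab1
    · exact hd d2 hd2 hlab2
    · exact hd d3 hd3 hlab3

end Code

end Cfsg.Agent.Lib.GolayUnique.Octad
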