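import Mathlib

/-!
Finite facts on the second order Reed-Muller code of length 16, used for the uniqueness of the
binary code with the parameters of the Golay code.

A function on 16 points orthogonal to the affine functions has the form `aff a + q b`, where `b` is
a 6-bit code of an alternating form and `a` a 5-bit code of an affine function. Its weight is
`2` modulo `4` only when the form is nondegenerate (`Pf b`). The 28 nondegenerate forms correspond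
to the 28 pairs of an 8 point set, through `beta0`, in such a way that the sum of the forms of two
pairs is nondegenerate only when the pairs have exactly one common point.
-/

set_option autoImplicit false

namespace Cfsg.Agent.Lib.GolayUnique.Rm

/-- The bit number `k` of `n`, in the field with two elements. -/
def bitF (k n : ℕ) : ZMod 2 := if n.testBit k then 1 else 0

theorem bitF_xor (k a b : ℕ) : bitF k (a ^^^ b) = bitF k a + bitF k b := by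
  unfold bitF
  rw [Nat.testBit_xor]
  cases a.testBit k <;> cases b.testBit k <;> decide

/-- The affine function with code `a`. -/
def aff (a n : ℕ) : ZMod 2 :=
  bitF 4 a + bitF 0 a * bitF 0 n + bitF 1 a * bitF 1 n + bitF 2 a * bitF 2 n + bitF 3 a * bitF 3 n

/-- The quadratic function with code `b`. -/
def q (b n : ℕ) : ZMod 2 :=
  bitF 0 b * (bitF 0 n * bitF 1 n) + bitF 1 b * (bitF 0 n * bitF 2 n)
    + bitF 2 b * (bitF 0 n * bitF 3 n) + bitF 3 b * (bitF 1 n * bitF 2 n)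
    + bitF 4 b * (bitF 1 n * bitF 3 n) + bitF 5 b * (bitF 2 n * bitF 3 n)

theorem aff_xor (a a' n : ℕ) : aff (a ^^^ a') n = aff a n + aff a' n := by
  unfold aff
  simp only [bitF_xor]
  ring

theorem q_xor (b b' n : ℕ) : q (b ^^^ b') n = q b n + q b' n := by
  unfold q
  simp only [bitF_xor]
  ring

/-- The Pfaffian of the alternating form with code `b`. -/
def Pf (b : ℕ) : Bool :=
  xor (xor (b.testBit 0 && b.testBit 5) (b.testBit 1 && b.testBit 4)) (b.testBit 2 && b.testBit 3)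

/-- Boolean version of `aff a n + q b n`. -/
def polyB (a b n : ℕ) : Bool :=
  xor (xor (xor (xor (xor (a.testBit 4) (a.testBit 0 && n.testBit 0)) (a.testBit 1 && n.testBit 1))
      (a.testBit 2 && n.testBit 2)) (a.testBit 3 && n.testBit 3))
  (xor (xor (xor (xor (xor
      (b.testBit 0 && (n.testBit 0 && n.testBit 1))
      (b.testBit 1 && (n.testBit 0 && n.testBit 2)))
      (b.testBit 2 && (n.testBit 0 && n.testBit 3)))
      (b.testBit 3 && (n.testBit 1 && n.testBit 2)))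
      (b.testBit 4 && (n.testBit 1 && n.testBit 3)))
      (b.testBit 5 && (n.testBit 2 && n.testBit 3)))

/-- The image of a boolean in the field with two elements. -/
def b2z (x : Bool) : ZMod 2 := if x then 1 else 0

theorem bitF_eq (k n : ℕ) : bitF k n = b2z (n.testBit k) := rfl

theorem b2z_xor (x y : Bool) : b2z (xor x y) = b2z x + b2z y := by
  cases x <;> cases y <;> decide

theorem b2z_and (x y : Bool) : b2z (x && y) = b2z x * b2z y := by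
  cases x <;> cases y <;> decide

theorem b2z_ne_zero (x : Bool) : b2z x ≠ 0 ↔ x = true := by
  cases x <;> decide

theorem poly_eq (a b n : ℕ) : aff a n + q b n = b2z (polyB a b n) := by
  simp only [polyB, b2z_xor, b2z_and, aff, q, bitF_eq]

/-- The weight of `aff a + q b`. -/
def wtB (a b : ℕ) : ℕ :=
  (Finset.univ.filter (fun n : Fin 16 => polyB a b n = true)).card

theorem wtB_eq (a b : ℕ) : hammingNorm (fun n : Fin 16 => aff a n + q b n) = wtB a b := by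
  unfold hammingNorm wtB
  congr 1
  ext n
  simp only [Finset.mem_filter, Finset.mem_univ, true_and]
  rw [poly_eq]
  exact b2z_ne_zero _

theorem wtB_check : ∀ a < 32, ∀ b < 64, wtB a b % 4 = 2 → Pf b = true := by
  decide +kernel

/-- A function of the form `aff a + q b` of weight `2` modulo `4` has `Pf b`. -/
theorem pf_of_wt {a b : ℕ} (ha : a < 32) (hb : b < 64)
    (h : hammingNorm (fun n : Fin 16 => aff a n + q b n) % 4 = 2) : Pf b = true :=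
  wtB_check a ha b hb (by rwa [← wtB_eq])

/-- The table of the alternating forms attached to the pairs. -/
def betaTable : List (List ℕ) :=
  [[0, 27, 50, 33, 13, 60, 46, 23], [27, 0, 41, 58, 22, 39, 53, 12], [50, 41, 0, 19, 63, 14, 28, 37], [33, 58, 19, 0, 44, 29, 15, 54], [13, 22, 63, 44, 0, 49, 35, 26], [60, 39, 14, 29, 49, 0, 18, 43], [46, 53, 28, 15, 35, 18, 0, 57], [23, 12, 37, 54, 26, 43, 57, 0]]

/-- The alternating form attached to a pair of points of the octad. -/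
def beta0 (s t : Fin 8) : ℕ := (betaTable.getD s.val []).getD t.val 0

/-- Two pairs have exactly one common point. -/
def meet1 (s t s' t' : Fin 8) : Prop :=
  (s = s' ∧ t ≠ t') ∨ (s = t' ∧ t ≠ s') ∨ (t = s' ∧ s ≠ t') ∨ (t = t' ∧ s ≠ s')

instance (s t s' t' : Fin 8) : Decidable (meet1 s t s' t') := by
  unfold meet1; infer_instance

theorem beta0_symm : ∀ s t : Fin 8, beta0 s t = beta0 t s := by decide +kernel

theorem beta0_lt : ∀ s t : Fin 8, beta0 s t < 64 := by decide +kernel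

theorem exists_beta0 : ∀ b < 64, Pf b = true → ∃ s t : Fin 8, s ≠ t ∧ beta0 s t = b := by
  decide +kernel

theorem pf_beta0 : ∀ s t : Fin 8, s ≠ t → Pf (beta0 s t) = true := by
  decide +kernel

theorem meet1_of_pf : ∀ s t s' t' : Fin 8, s ≠ t → s' ≠ t' →
    Pf (beta0 s t ^^^ beta0 s' t') = true → meet1 s t s' t' := by
  decide +kernel

theorem beta0_add : ∀ s t r : Fin 8, s ≠ t → s ≠ r → t ≠ r →
    beta0 s t = beta0 s r ^^^ beta0 t r := by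
  decide +kernel

/-- The combinatorial star lemma: four pairs of points that pairwise have exactly one common point
have a common point (and the common point of the first two belongs to the third). -/
theorem star (s0 t0 s1 t1 s2 t2 s3 t3 r : Fin 8) (h0 : s0 ≠ t0) (h1 : s1 ≠ t1) (h2 : s2 ≠ t2)
    (h3 : s3 ≠ t3) (h01 : meet1 s0 t0 s1 t1) (h02 : meet1 s0 t0 s2 t2) (h03 : meet1 s0 t0 s3 t3)
    (h12 : meet1 s1 t1 s2 t2) (h13 : meet1 s1 t1 s3 t3) (h23 : meet1 s2 t2 s3 t3)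
    (hr0 : r = s0 ∨ r = t0) (hr1 : r = s1 ∨ r = t1) : r = s2 ∨ r = t2 := by
  unfold meet1 at *
  grind

theorem sum16 (F : Fin 16 → ZMod 2) : ∑ n, F n = F 0 + (F 1 + (F 2 + (F 3 + (F 4 + (F 5 + (F 6 +
    (F 7 + (F 8 + (F 9 + (F 10 + (F 11 + (F 12 + (F 13 + (F 14 + (F 15 + 0))))))))))))))) := rfl

/-- The codes of a list of five elements of the field with two elements. -/
theorem code5 : ∀ v0 v1 v2 v3 v4 : ZMod 2,
    v0.val + 2 * v1.val + 4 * v2.val + 8 * v3.val + 16 * v4.val < 32 ∧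
    bitF 0 (v0.val + 2 * v1.val + 4 * v2.val + 8 * v3.val + 16 * v4.val) = v0 ∧
    bitF 1 (v0.val + 2 * v1.val + 4 * v2.val + 8 * v3.val + 16 * v4.val) = v1 ∧
    bitF 2 (v0.val + 2 * v1.val + 4 * v2.val + 8 * v3.val + 16 * v4.val) = v2 ∧
    bitF 3 (v0.val + 2 * v1.val + 4 * v2.val + 8 * v3.val + 16 * v4.val) = v3 ∧
    bitF 4 (v0.val + 2 * v1.val + 4 * v2.val + 8 * v3.val + 16 * v4.val) = v4 := by
  decide +kernel

theorem code6 : ∀ v0 v1 v2 v3 v4 v5 : ZMod 2,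
    v0.val + 2 * v1.val + 4 * v2.val + 8 * v3.val + 16 * v4.val + 32 * v5.val < 64 ∧
    bitF 0 (v0.val + 2 * v1.val + 4 * v2.val + 8 * v3.val + 16 * v4.val + 32 * v5.val) = v0 ∧
    bitF 1 (v0.val + 2 * v1.val + 4 * v2.val + 8 * v3.val + 16 * v4.val + 32 * v5.val) = v1 ∧
    bitF 2 (v0.val + 2 * v1.val + 4 * v2.val + 8 * v3.val + 16 * v4.val + 32 * v5.val) = v2 ∧
    bitF 3 (v0.val + 2 * v1.val + 4 * v2.val + 8 * v3.val + 16 * v4.val + 32 * v5.val) = v3 ∧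
    bitF 4 (v0.val + 2 * v1.val + 4 * v2.val + 8 * v3.val + 16 * v4.val + 32 * v5.val) = v4 ∧
    bitF 5 (v0.val + 2 * v1.val + 4 * v2.val + 8 * v3.val + 16 * v4.val + 32 * v5.val) = v5 := by
  decide +kernel

/-- The values of the coordinate functions. -/
theorem bit_values : bitF 0 ((0 : Fin 16) : ℕ) = 0 ∧ bitF 1 ((0 : Fin 16) : ℕ) = 0 ∧ bitF 2 ((0 : Fin 16) : ℕ) = 0 ∧ bitF 3 ((0 : Fin 16) : ℕ) = 0 ∧ bitF 0 ((1 : Fin 16) : ℕ) = 1 ∧ bitF 1 ((1 : Fin 16) : ℕ) = 0 ∧ bitF 2 ((1 : Fin 16) : ℕ) = 0 ∧ bitF 3 ((1 : Fin 16) : ℕ) = 0 ∧ bitF 0 ((2 : Fin 16) : ℕ) = 0 ∧ bitF 1 ((2 : Fin 16) : ℕ) = 1 ∧ bitF 2 ((2 : Fin 16) : ℕ) = 0 ∧ bitF 3 ((2 : Fin 16) : ℕ) = 0 ∧ bitF 0 ((3 : Fin 16) : ℕ) = 1 ∧ bitF 1 ((3 : Fin 16) : ℕ) = 1 ∧ bitF 2 ((3 : Fin 16) : ℕ) = 0 ∧ bitF 3 ((3 : Fin 16) : ℕ) = 0 ∧ bitF 0 ((4 : Fin 16) : ℕ) = 0 ∧ bitF 1 ((4 : Fin 16) : ℕ) = 0 ∧ bitF 2 ((4 : Fin 16) : ℕ) = 1 ∧ bitF 3 ((4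 : Fin 16) : ℕ) = 0 ∧ bitF 0 ((5 : Fin 16) : ℕ) = 1 ∧ bitF 1 ((5 : Fin 16) : ℕ) = 0 ∧ bitF 2 ((5 : Fin 16) : ℕ) = 1 ∧ bitF 3 ((5 : Fin 16) : ℕ) = 0 ∧ bitF 0 ((6 : Fin 16) : ℕ) = 0 ∧ bitF 1 ((6 : Fin 16) : ℕ) = 1 ∧ bitF 2 ((6 : Fin 16) : ℕ) = 1 ∧ bitF 3 ((6 : Fin 16) : ℕ) = 0 ∧ bitF 0 ((7 : Fin 16) : ℕ) = 1 ∧ bitF 1 ((7 : Fin 16) : ℕ) = 1 ∧ bitF 2 ((7 : Fin 16) : ℕ) = 1 ∧ bitF 3 ((7 : Fin 16) : ℕ) = 0 ∧ bitF 0 ((8 : Fin 16) : ℕ) = 0 ∧ bitF 1 ((8 : Fin 16) : ℕ) = 0 ∧ bitF 2 ((8 : Fin 16) : ℕ) = 0 ∧ bitF 3 ((8 : Fin 16) : ℕ) = 1 ∧ bitF 0 ((9 : Fin 16) : ℕ) = 1 ∧ bitF 1 ((9 : Fin 16) : ℕ) = 0 ∧ bitF 2 ((9 : Fin 16) : ℕ) = 0 ∧ bitF 3 ((9 : Fin 16) : ℕ) = 1 ∧ bitF 0 ((10 : Fin 16) : ℕ) = 0 ∧ bitF 1 ((10 : Fin 16) : ℕ) = 1 ∧ bitF 2 ((10 : Fin 16) : ℕ) = 0 ∧ bitF 3 ((10 : Fin 16) : ℕ) = 1 ∧ bitF 0 ((11 : Fin 16) : ℕ) = 1 ∧ bitF 1 ((11 : Fin 16) : ℕ) = 1 ∧ bitF 2 ((11 : Fin 16) : ℕ) = 0 ∧ bitF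 3 ((11 : Fin 16) : ℕ) = 1 ∧ bitF 0 ((12 : Fin 16) : ℕ) = 0 ∧ bitF 1 ((12 : Fin 16) : ℕ) = 0 ∧ bitF 2 ((12 : Fin 16) : ℕ) = 1 ∧ bitF 3 ((12 : Fin 16) : ℕ) = 1 ∧ bitF 0 ((13 : Fin 16) : ℕ) = 1 ∧ bitF 1 ((13 : Fin 16) : ℕ) = 0 ∧ bitF 2 ((13 : Fin 16) : ℕ) = 1 ∧ bitF 3 ((13 : Fin 16) : ℕ) = 1 ∧ bitF 0 ((14 : Fin 16) : ℕ) = 0 ∧ bitF 1 ((14 : Fin 16) : ℕ) = 1 ∧ bitF 2 ((14 : Fin 16) : ℕ) = 1 ∧ bitF 3 ((14 : Fin 16) : ℕ) = 1 ∧ bitF 0 ((15 : Fin 16) : ℕ) = 1 ∧ bitF 1 ((15 : Fin 16) : ℕ) = 1 ∧ bitF 2 ((15 : Fin 16) : ℕ) = 1 ∧ bitF 3 ((15 : Fin 16) : ℕ) = 1 := by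
  decide +kernel

/-- The explicit evaluation of `aff a n + q b n` at the 16 points. -/
theorem poly_values (a b : ℕ) (c a0 a1 a2 a3 b0 b1 b2 b3 b4 b5 : ZMod 2)
    (hc : bitF 4 a = c) (ha0 : bitF 0 a = a0) (ha1 : bitF 1 a = a1) (ha2 : bitF 2 a = a2)
    (ha3 : bitF 3 a = a3) (hb0 : bitF 0 b = b0) (hb1 : bitF 1 b = b1) (hb2 : bitF 2 b = b2)
    (hb3 : bitF 3 b = b3) (hb4 : bitF 4 b = b4) (hb5 : bitF 5 b = b5) (n : ℕ) :
    aff a n + q b n = c + a0 * bitF 0 n + a1 * bitF 1 n + a2 * bitF 2 n + a3 * bitF 3 n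
      + (b0 * (bitF 0 n * bitF 1 n) + b1 * (bitF 0 n * bitF 2 n) + b2 * (bitF 0 n * bitF 3 n)
        + b3 * (bitF 1 n * bitF 2 n) + b4 * (bitF 1 n * bitF 3 n) + b5 * (bitF 2 n * bitF 3 n)) := by
  unfold aff q
  rw [hc, ha0, ha1, ha2, ha3, hb0, hb1, hb2, hb3, hb4, hb5]

/-- A function on 16 points orthogonal to the affine functions has the form `aff a + q b`. -/
theorem rm2_form (f : Fin 16 → ZMod 2) (h0 : ∑ n, f n = 0) (h1 : ∑ n : Fin 16, f n * bitF 0 n = 0)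
    (h2 : ∑ n : Fin 16, f n * bitF 1 n = 0) (h3 : ∑ n : Fin 16, f n * bitF 2 n = 0)
    (h4 : ∑ n : Fin 16, f n * bitF 3 n = 0) :
    ∃ a < 32, ∃ b < 64, ∀ n : Fin 16, f n = aff a n + q b n := by
  have two : (2 : ZMod 2) = 0 := rfl
  rw [sum16] at h0 h1 h2 h3 h4
  generalize hv0 : f 0 = v0 at *
  generalize hv1 : f 1 = v1 at *
  generalize hv2 : f 2 = v2 at *
  generalize hv3 : f 3 = v3 at *
  generalize hv4 : f 4 = v4 at *
  generalize hv5 : f 5 = v5 at *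
  generalize hv6 : f 6 = v6 at *
  generalize hv7 : f 7 = v7 at *
  generalize hv8 : f 8 = v8 at *
  generalize hv9 : f 9 = v9 at *
  generalize hv10 : f 10 = v10 at *
  generalize hv11 : f 11 = v11 at *
  generalize hv12 : f 12 = v12 at *
  generalize hv13 : f 13 = v13 at *
  generalize hv14 : f 14 = v14 at *
  generalize hv15 : f 15 = v15 at *
  obtain ⟨b0_0, b0_1, b0_2, b0_3, b1_0, b1_1, b1_2, b1_3, b2_0, b2_1, b2_2, b2_3, b3_0, b3_1, b3_2, b3_3, b4_0, b4_1, b4_2, b4_3, b5_0, b5_1, b5_2, b5_3, b6_0, b6_1, b6_2, b6_3, b7_0, b7_1, b7_2, b7_3, b8_0, b8_1, b8_2, b8_3, b9_0, b9_1, b9_2, b9_3, b10_0, b10_1, b10_2, b10_3, b11_0, b11_1, b11_2, b11_3, b12_0, b12_1, b12_2, b12_3, b13_0, b13_1, b13_2, b13_3, b14_0, b14_1, b14_2, b14_3, b15_0, b15_1, b15_2, b15_3⟩ := bit_values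
  simp only [b0_0, b0_1, b0_2, b0_3, b1_0, b1_1, b1_2, b1_3, b2_0, b2_1, b2_2, b2_3, b3_0, b3_1, b3_2, b3_3, b4_0, b4_1, b4_2, b4_3, b5_0, b5_1, b5_2, b5_3, b6_0, b6_1, b6_2, b6_3, b7_0, b7_1, b7_2, b7_3, b8_0, b8_1, b8_2, b8_3, b9_0, b9_1, b9_2, b9_3, b10_0, b10_1, b10_2, b10_3, b11_0, b11_1, b11_2, b11_3, b12_0, b12_1, b12_2, b12_3, b13_0, b13_1, b13_2, b13_3, b14_0, b14_1, b14_2, b14_3, b15_0, b15_1, b15_2, b15_3] at h1 h2 h3 h4
  obtain ⟨ha, ca0, ca1, ca2, ca3, ca4⟩ := code5 (v1 + v0) (v2 + v0) (v4 + v0) (v8 + v0) v0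
  obtain ⟨hb', cb0, cb1, cb2, cb3, cb4, cb5⟩ := code6 (v3 + v1 + v2 + v0) (v5 + v1 + v4 + v0)
    (v9 + v1 + v8 + v0) (v6 + v2 + v4 + v0) (v10 + v2 + v8 + v0) (v12 + v4 + v8 + v0)
  refine ⟨_, ha, _, hb', ?_⟩
  have key := poly_values _ _ _ _ _ _ _ _ _ _ _ _ _ ca4 ca0 ca1 ca2 ca3 cb0 cb1 cb2 cb3 cb4 cb5
  intro n
  rw [key]
  clear key ha hb' ca0 ca1 ca2 ca3 ca4 cb0 cb1 cb2 cb3 cb4 cb5
  have h0' := h0
  fin_cases n
  · have e : f 0 = v0 := hv0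
    show f 0 = _
    rw [e]
    simp only [show bitF 0 ((⟨0, by omega⟩ : Fin 16) : ℕ) = 0 from by decide, show bitF 1 ((⟨0, by omega⟩ : Fin 16) : ℕ) = 0 from by decide, show bitF 2 ((⟨0, by omega⟩ : Fin 16) : ℕ) = 0 from by decide, show bitF 3 ((⟨0, by omega⟩ : Fin 16) : ℕ) = 0 from by decide]
    linear_combination (0) * two
  · have e : f 1 = v1 := hv1
    show f 1 = _
    rw [e]
    simp only [show bitF 0 ((⟨1, by omega⟩ : Fin 16) : ℕ) = 1 from by decide, show bitF 1 ((⟨1, by omega⟩ : Fin 16) : ℕ) = 0 from by decide, show bitF 2 ((⟨1, by omega⟩ : Fin 16) : ℕ) = 0 from by decide, show bitF 3 ((⟨1, by omega⟩ : Fin 16) : ℕ) = 0 from by decide]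
    linear_combination ((-1) * v0) * two
  · have e : f 2 = v2 := hv2
    show f 2 = _
    rw [e]
    simp only [show bitF 0 ((⟨2, by omega⟩ : Fin 16) : ℕ) = 0 from by decide, show bitF 1 ((⟨2, by omega⟩ : Fin 16) : ℕ) = 1 from by decide, show bitF 2 ((⟨2, by omega⟩ : Fin 16) : ℕ) = 0 from by decide, show bitF 3 ((⟨2, by omega⟩ : Fin 16) : ℕ) = 0 from by decide]
    linear_combination ((-1) * v0) * two
  · have e : f 3 = v3 := hv3
    show f 3 = _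
    rw [e]
    simp only [show bitF 0 ((⟨3, by omega⟩ : Fin 16) : ℕ) = 1 from by decide, show bitF 1 ((⟨3, by omega⟩ : Fin 16) : ℕ) = 1 from by decide, show bitF 2 ((⟨3, by omega⟩ : Fin 16) : ℕ) = 0 from by decide, show bitF 3 ((⟨3, by omega⟩ : Fin 16) : ℕ) = 0 from by decide]
    linear_combination ((-2) * v0 + (-1) * v1 + (-1) * v2) * two
  · have e : f 4 = v4 := hv4
    show f 4 = _
    rw [e]
    simp only [show bitF 0 ((⟨4, by omega⟩ : Fin 16) : ℕ) = 0 from by decide, show bitF 1 ((⟨4, by omega⟩ : Fin 16) : ℕ) = 0 from by decide, show bitF 2 ((⟨4, by omega⟩ : Fin 16) : ℕ) = 1 from by decide, show bitF 3 ((⟨4, by omega⟩ : Fin 16) : ℕ) = 0 from by decide]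
    linear_combination ((-1) * v0) * two
  · have e : f 5 = v5 := hv5
    show f 5 = _
    rw [e]
    simp only [show bitF 0 ((⟨5, by omega⟩ : Fin 16) : ℕ) = 1 from by decide, show bitF 1 ((⟨5, by omega⟩ : Fin 16) : ℕ) = 0 from by decide, show bitF 2 ((⟨5, by omega⟩ : Fin 16) : ℕ) = 1 from by decide, show bitF 3 ((⟨5, by omega⟩ : Fin 16) : ℕ) = 0 from by decide]
    linear_combination ((-2) * v0 + (-1) * v1 + (-1) * v4) * two
  · have e : f 6 = v6 := hv6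
    show f 6 = _
    rw [e]
    simp only [show bitF 0 ((⟨6, by omega⟩ : Fin 16) : ℕ) = 0 from by decide, show bitF 1 ((⟨6, by omega⟩ : Fin 16) : ℕ) = 1 from by decide, show bitF 2 ((⟨6, by omega⟩ : Fin 16) : ℕ) = 1 from by decide, show bitF 3 ((⟨6, by omega⟩ : Fin 16) : ℕ) = 0 from by decide]
    linear_combination ((-2) * v0 + (-1) * v2 + (-1) * v4) * two
  · have e : f 7 = v7 := hv7
    show f 7 = _
    rw [e]
    simp only [show bitF 0 ((⟨7, by omega⟩ : Fin 16) : ℕ) = 1 from by decide, show bitF 1 ((⟨7, by omega⟩ : Fin 16) : ℕ) = 1 from by decide, show bitF 2 ((⟨7, by omega⟩ : Fin 16) : ℕ) = 1 from by decide, show bitF 3 ((⟨7, by omega⟩ : Fin 16) : ℕ) = 0 from by decide]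
    linear_combination h0 + h4 + ((-4) * v0 + (-2) * v1 + (-2) * v2 + (-1) * v3 + (-2) * v4 + (-1) * v5 + (-1) * v6 + (-1) * v8 + (-1) * v9 + (-1) * v10 + (-1) * v11 + (-1) * v12 + (-1) * v13 + (-1) * v14 + (-1) * v15) * two
  · have e : f 8 = v8 := hv8
    show f 8 = _
    rw [e]
    simp only [show bitF 0 ((⟨8, by omega⟩ : Fin 16) : ℕ) = 0 from by decide, show bitF 1 ((⟨8, by omega⟩ : Fin 16) : ℕ) = 0 from by decide, show bitF 2 ((⟨8, by omega⟩ : Fin 16) : ℕ) = 0 from by decide, show bitF 3 ((⟨8, by omega⟩ : Fin 16) : ℕ) = 1 from by decide]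
    linear_combination ((-1) * v0) * two
  · have e : f 9 = v9 := hv9
    show f 9 = _
    rw [e]
    simp only [show bitF 0 ((⟨9, by omega⟩ : Fin 16) : ℕ) = 1 from by decide, show bitF 1 ((⟨9, by omega⟩ : Fin 16) : ℕ) = 0 from by decide, show bitF 2 ((⟨9, by omega⟩ : Fin 16) : ℕ) = 0 from by decide, show bitF 3 ((⟨9, by omega⟩ : Fin 16) : ℕ) = 1 from by decide]
    linear_combination ((-2) * v0 + (-1) * v1 + (-1) * v8) * two
  · have e : f 10 = v10 := hv10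
    show f 10 = _
    rw [e]
    simp only [show bitF 0 ((⟨10, by omega⟩ : Fin 16) : ℕ) = 0 from by decide, show bitF 1 ((⟨10, by omega⟩ : Fin 16) : ℕ) = 1 from by decide, show bitF 2 ((⟨10, by omega⟩ : Fin 16) : ℕ) = 0 from by decide, show bitF 3 ((⟨10, by omega⟩ : Fin 16) : ℕ) = 1 from by decide]
    linear_combination ((-2) * v0 + (-1) * v2 + (-1) * v8) * two
  · have e : f 11 = v11 := hv11
    show f 11 = _
    rw [e]
    simp only [show bitF 0 ((⟨11, by omega⟩ : Fin 16) : ℕ) = 1 from by decide, show bitF 1 ((⟨11, by omega⟩ : Fin 16) : ℕ) = 1 from by decide, show bitF 2 ((⟨11, by omega⟩ : Fin 16) : ℕ) = 0 from by decide, show bitF 3 ((⟨11, by omega⟩ : Fin 16) : ℕ) = 1 from by decide]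
    linear_combination h0 + h3 + ((-4) * v0 + (-2) * v1 + (-2) * v2 + (-1) * v3 + (-1) * v4 + (-1) * v5 + (-1) * v6 + (-1) * v7 + (-2) * v8 + (-1) * v9 + (-1) * v10 + (-1) * v12 + (-1) * v13 + (-1) * v14 + (-1) * v15) * two
  · have e : f 12 = v12 := hv12
    show f 12 = _
    rw [e]
    simp only [show bitF 0 ((⟨12, by omega⟩ : Fin 16) : ℕ) = 0 from by decide, show bitF 1 ((⟨12, by omega⟩ : Fin 16) : ℕ) = 0 from by decide, show bitF 2 ((⟨12, by omega⟩ : Fin 16) : ℕ) = 1 from by decide, show bitF 3 ((⟨12, by omega⟩ : Fin 16) : ℕ) = 1 from by decide]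
    linear_combination ((-2) * v0 + (-1) * v4 + (-1) * v8) * two
  · have e : f 13 = v13 := hv13
    show f 13 = _
    rw [e]
    simp only [show bitF 0 ((⟨13, by omega⟩ : Fin 16) : ℕ) = 1 from by decide, show bitF 1 ((⟨13, by omega⟩ : Fin 16) : ℕ) = 0 from by decide, show bitF 2 ((⟨13, by omega⟩ : Fin 16) : ℕ) = 1 from by decide, show bitF 3 ((⟨13, by omega⟩ : Fin 16) : ℕ) = 1 from by decide]
    linear_combination h0 + h2 + ((-4) * v0 + (-2) * v1 + (-1) * v2 + (-1) * v3 + (-2) * v4 + (-1) * v5 + (-1) * v6 + (-1) * v7 + (-2) * v8 + (-1) * v9 + (-1) * v10 + (-1) * v11 + (-1) * v12 + (-1) * v14 + (-1) * v15) * two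
  · have e : f 14 = v14 := hv14
    show f 14 = _
    rw [e]
    simp only [show bitF 0 ((⟨14, by omega⟩ : Fin 16) : ℕ) = 0 from by decide, show bitF 1 ((⟨14, by omega⟩ : Fin 16) : ℕ) = 1 from by decide, show bitF 2 ((⟨14, by omega⟩ : Fin 16) : ℕ) = 1 from by decide, show bitF 3 ((⟨14, by omega⟩ : Fin 16) : ℕ) = 1 from by decide]
    linear_combination h0 + h1 + ((-4) * v0 + (-1) * v1 + (-2) * v2 + (-1) * v3 + (-2) * v4 + (-1) * v5 + (-1) * v6 + (-1) * v7 + (-2) * v8 + (-1) * v9 + (-1) * v10 + (-1) * v11 + (-1) * v12 + (-1) * v13 + (-1) * v15) * two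
  · have e : f 15 = v15 := hv15
    show f 15 = _
    rw [e]
    simp only [show bitF 0 ((⟨15, by omega⟩ : Fin 16) : ℕ) = 1 from by decide, show bitF 1 ((⟨15, by omega⟩ : Fin 16) : ℕ) = 1 from by decide, show bitF 2 ((⟨15, by omega⟩ : Fin 16) : ℕ) = 1 from by decide, show bitF 3 ((⟨15, by omega⟩ : Fin 16) : ℕ) = 1 from by decide]
    linear_combination h0 + h1 + h2 + h3 + h4 + ((-6) * v0 + (-3) * v1 + (-3) * v2 + (-2) * v3 + (-3) * v4 + (-2) * v5 + (-2) * v6 + (-2) * v7 + (-3) * v8 + (-2) * v9 + (-2) * v10 + (-2) * v11 + (-2) * v12 + (-2) * v13 + (-2) * v14 + (-2) * v15) * two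

end Cfsg.Agent.Lib.GolayUnique.Rm
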