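import Cfsg.Agent.Lib.GolayUnique.Octad

/-!
In the coordinates `Fin 8 ⊕ Fin 16` given by an octad, a code with the parameters of the Golay code
containing the affine functions on the 16 points contains all the words `Bw s t`, after a
permutation of the 8 points of the octad.
-/

set_option autoImplicit false
set_option linter.unusedSectionVars false
set_option linter.style.haveILetI false

namespace Cfsg.Agent.Lib.GolayUnique.Star

open Finset Module
open Cfsg.Agent.Lib.GolayUnique.Rm Cfsg.Agent.Lib.GolayUnique.Dual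

/-- The 24 points. -/
abbrev Pt : Type := Fin 8 ⊕ Fin 16

/-- The affine words. -/
def affW (a : ℕ) : Pt → ZMod 2 := Sum.elim (fun _ => 0) (fun n : Fin 16 => aff a n)

/-- The indicator of a pair. -/
def pairInd (s t : Fin 8) : Fin 8 → ZMod 2 := fun i => if i = s ∨ i = t then 1 else 0

/-- The model words. -/
def Bw (s t : Fin 8) : Pt → ZMod 2 :=
  Sum.elim (pairInd s t) (fun n : Fin 16 => q (beta0 s t) n)

theorem pairInd_sum : ∀ s t : Fin 8, s ≠ t → ∑ l, pairInd s t l = 0 := by decide +kernel

theorem pairInd_wt : ∀ s t : Fin 8, s ≠ t → hammingNorm (pairInd s t) = 2 := by decide +kernel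

theorem pairInd_add : ∀ a a' z l : Fin 8, a ≠ z → a' ≠ z → a ≠ a' →
    pairInd a z l + pairInd a' z l = pairInd a a' l := by decide +kernel

theorem exists_third : ∀ i j : Fin 8, ∃ k, k ≠ i ∧ k ≠ j := by decide +kernel

theorem hammingNorm_sum (f : Pt → ZMod 2) :
    hammingNorm f = hammingNorm (fun i => f (Sum.inl i)) + hammingNorm (fun n => f (Sum.inr n)) := by
  simp only [hammingNorm, Finset.card_filter]
  rw [Fintype.sum_sum_type]

theorem add_self (a : ZMod 2) : a + a = 0 := CharTwo.add_self_eq_zero a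

/-- The combinatorics of the seven pairs. -/
theorem star_family (s t : Fin 7 → Fin 8) (hne : ∀ a, s a ≠ t a)
    (hm : ∀ a a', a ≠ a' → meet1 (s a) (t a) (s a') (t a')) : ∃ r, ∀ a, r = s a ∨ r = t a := by
  have h01 := hm 0 1 (by decide)
  obtain ⟨r, hr0, hr1⟩ : ∃ r, (r = s 0 ∨ r = t 0) ∧ (r = s 1 ∨ r = t 1) := by
    unfold meet1 at h01
    rcases h01 with ⟨h, _⟩ | ⟨h, _⟩ | ⟨h, _⟩ | ⟨h, _⟩
    · exact ⟨s 0, Or.inl rfl, Or.inl h⟩
    · exact ⟨s 0, Or.inl rfl, Or.inr h⟩
    · exact ⟨t 0, Or.inr rfl, Or.inl h⟩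
    · exact ⟨t 0, Or.inr rfl, Or.inr h⟩
  refine ⟨r, fun a => ?_⟩
  by_cases ha0 : a = 0
  · rw [ha0]; exact hr0
  by_cases ha1 : a = 1
  · rw [ha1]; exact hr1
  obtain ⟨b, hb0, hb1, hba⟩ : ∃ b : Fin 7, b ≠ 0 ∧ b ≠ 1 ∧ b ≠ a := by
    by_cases ha2 : a = 2
    · exact ⟨3, by decide, by decide, by rw [ha2]; decide⟩
    · exact ⟨2, by decide, by decide, Ne.symm ha2⟩
  exact Rm.star _ _ _ _ _ _ _ _ r (hne 0) (hne 1) (hne a) (hne b) h01 (hm 0 a (Ne.symm ha0))
    (hm 0 b (Ne.symm hb0)) (hm 1 a (Ne.symm ha1)) (hm 1 b (Ne.symm hb1)) (hm a b (Ne.symm hba)) hr0 hr1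

variable {C : Submodule (ZMod 2) (Pt → ZMod 2)}

theorem exists_form (hC : GolayLike C)
    (hu : Sum.elim (fun _ => (0 : ZMod 2)) (fun _ => 1) ∈ C)
    (hx : ∀ k < 4, Sum.elim (fun _ => (0 : ZMod 2)) (fun n : Fin 16 => bitF k n) ∈ C)
    {c : Pt → ZMod 2} (hc : c ∈ C) :
    ∃ a < 32, ∃ b < 64, ∀ n : Fin 16, c (Sum.inr n) = aff a n + q b n := by
  have h0 := hC.orth _ hu _ hc
  have hk : ∀ k < 4, ∑ n : Fin 16, c (Sum.inr n) * bitF k n = 0 := by
    intro k hk
    have := hC.orth _ (hx k hk) _ hc
    rw [Fintype.sum_sum_type] at this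
    simp only [Sum.elim_inl, zero_mul, sum_const_zero, zero_add, Sum.elim_inr] at this
    rw [← this]
    exact sum_congr rfl (fun n _ => mul_comm _ _)
  rw [Fintype.sum_sum_type] at h0
  simp only [Sum.elim_inl, zero_mul, sum_const_zero, zero_add, Sum.elim_inr, one_mul] at h0
  exact rm2_form (fun n => c (Sum.inr n)) h0 (hk 0 (by norm_num)) (hk 1 (by norm_num))
    (hk 2 (by norm_num)) (hk 3 (by norm_num))

theorem exists_pair (hC : GolayLike C)
    (hu : Sum.elim (fun _ => (0 : ZMod 2)) (fun _ => 1) ∈ C) (i j : Fin 8) (hij : i ≠ j) :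
    ∃ c ∈ C, ∀ l, c (Sum.inl l) = pairInd i j l := by
  classical
  obtain ⟨k, hki, hkj⟩ := exists_third i j
  have hone := hC.one_mem
  have hω : (Sum.elim (fun _ => (1 : ZMod 2)) (fun _ => 0) : Pt → ZMod 2) ∈ C := by
    have : (Sum.elim (fun _ => (1 : ZMod 2)) (fun _ => 0) : Pt → ZMod 2)
        = 1 + Sum.elim (fun _ => (0 : ZMod 2)) (fun _ => 1) := by
      funext p
      cases p <;> simp
      rfl
    rw [this]
    exact Submodule.add_mem _ hone hu
  let T : Finset Pt := (univ.erase k).map ⟨Sum.inl, Sum.inl_injective⟩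
  have hTcard : T.card = 7 := by
    simp [T, card_erase_of_mem]
  have hT : ∀ w ∈ C, (∀ p, p ∉ T → w p = 0) → w = 0 := by
    intro w hw hsupp
    by_contra hne
    have h1 := hC.eight_le hw hne
    have h2 : supp w ⊆ T := by
      intro p hp
      by_contra hpT
      rw [mem_supp, hsupp p hpT] at hp
      exact zero_ne_one hp
    have h3 := card_le_card h2
    rw [card_supp, hTcard] at h3
    omega
  obtain ⟨c, hcC, hc⟩ := hC.exists_restrict T hT (Sum.elim (pairInd i j) (fun _ => 0))
  refine ⟨c, hcC, fun l => ?_⟩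
  have hc' : ∀ l, l ≠ k → c (Sum.inl l) = pairInd i j l := by
    intro l hl
    apply hc (Sum.inl l)
    simp [T, hl]
  by_cases hl : l = k
  · subst hl
    have h1 := hC.orth _ hω _ hcC
    rw [Fintype.sum_sum_type] at h1
    simp only [Sum.elim_inl, one_mul, Sum.elim_inr, zero_mul, sum_const_zero, add_zero] at h1
    rw [← add_sum_erase univ _ (mem_univ l), sum_congr rfl (fun x hx => hc' x (ne_of_mem_erase hx))] at h1
    have h2 := pairInd_sum i j hij
    rw [← add_sum_erase univ _ (mem_univ l)] at h2
    generalize ∑ x ∈ univ.erase l, pairInd i j x = y at h1 h2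
    generalize c (Sum.inl l) = u at h1
    generalize pairInd i j l = v at h2
    revert u v y
    decide
  · exact hc' l hl

/-- Pfaffian of the quadratic part of a word meeting the octad in a pair. -/
theorem pf_of_pair (hC : GolayLike C) {c : Pt → ZMod 2} (hc : c ∈ C) {i j : Fin 8} (hij : i ≠ j)
    (hci : ∀ l, c (Sum.inl l) = pairInd i j l) {a b : ℕ} (ha : a < 32) (hb : b < 64)
    (hf : ∀ n : Fin 16, c (Sum.inr n) = aff a n + q b n) : Pf b = true := by
  apply pf_of_wt ha hb
  have h1 := hC.four c hc
  rw [hammingNorm_sum] at h1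
  have h2 : (fun l => c (Sum.inl l)) = pairInd i j := funext hci
  have h3 : (fun n => c (Sum.inr n)) = fun n : Fin 16 => aff a n + q b n := funext hf
  rw [h2, h3, pairInd_wt i j hij] at h1
  omega

/-- The main construction. -/
theorem exists_perm (hC : GolayLike C)
    (hu : Sum.elim (fun _ => (0 : ZMod 2)) (fun _ => 1) ∈ C)
    (hx : ∀ k < 4, Sum.elim (fun _ => (0 : ZMod 2)) (fun n : Fin 16 => bitF k n) ∈ C) :
    ∃ π : Equiv.Perm (Fin 8), ∀ s t, s ≠ t → (fun p => Bw s t (Sum.map π id p)) ∈ C := by
  classical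
  -- the affine words
  have hAff : ∀ a, affW a ∈ C := by
    intro a
    have : affW a = bitF 4 a • Sum.elim (fun _ => (0 : ZMod 2)) (fun _ => 1)
        + bitF 0 a • Sum.elim (fun _ => (0 : ZMod 2)) (fun n : Fin 16 => bitF 0 n)
        + bitF 1 a • Sum.elim (fun _ => (0 : ZMod 2)) (fun n : Fin 16 => bitF 1 n)
        + bitF 2 a • Sum.elim (fun _ => (0 : ZMod 2)) (fun n : Fin 16 => bitF 2 n)
        + bitF 3 a • Sum.elim (fun _ => (0 : ZMod 2)) (fun n : Fin 16 => bitF 3 n) := by
      funext p
      cases p with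
      | inl i => simp [affW]
      | inr n => simp [affW, aff]
    rw [this]
    exact Submodule.add_mem _ (Submodule.add_mem _ (Submodule.add_mem _ (Submodule.add_mem _
      (Submodule.smul_mem _ _ hu) (Submodule.smul_mem _ _ (hx 0 (by norm_num))))
      (Submodule.smul_mem _ _ (hx 1 (by norm_num)))) (Submodule.smul_mem _ _ (hx 2 (by norm_num))))
      (Submodule.smul_mem _ _ (hx 3 (by norm_num)))
  -- the words through the last point
  let z : Fin 8 := Fin.last 7
  have hcz : ∀ a : Fin 7, a.castSucc ≠ z := fun a => (Fin.castSucc_lt_last a).ne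
  choose c hcC hci using fun a : Fin 7 => exists_pair hC hu a.castSucc z (hcz a)
  choose α hα β hβ hf using fun a : Fin 7 => exists_form hC hu hx (hcC a)
  have hPf : ∀ a, Pf (β a) = true := fun a => pf_of_pair hC (hcC a) (hcz a) (hci a) (hα a) (hβ a) (hf a)
  have hPf2 : ∀ a a', a ≠ a' → Pf (β a ^^^ β a') = true := by
    intro a a' haa
    have hne : a.castSucc ≠ a'.castSucc := fun h => haa (Fin.castSucc_injective _ h)
    refine pf_of_pair hC (Submodule.add_mem _ (hcC a) (hcC a')) hne (a := α a ^^^ α a') ?_ ?_ ?_ ?_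
    · intro l
      rw [Pi.add_apply, hci, hci]
      exact pairInd_add _ _ _ _ (hcz a) (hcz a') hne
    · exact Nat.xor_lt_two_pow (n := 5) (hα a) (hα a')
    · exact Nat.xor_lt_two_pow (n := 6) (hβ a) (hβ a')
    · intro n
      rw [Pi.add_apply, hf, hf, aff_xor, q_xor]
      ring
  -- the pairs
  choose s t hst hbeta using fun a => exists_beta0 (β a) (hβ a) (hPf a)
  have hmeet : ∀ a a', a ≠ a' → meet1 (s a) (t a) (s a') (t a') := by
    intro a a' haa
    apply meet1_of_pf _ _ _ _ (hst a) (hst a')
    rw [hbeta, hbeta]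
    exact hPf2 a a' haa
  obtain ⟨r, hr⟩ := star_family s t hst hmeet
  -- the other point of the pair
  let leaf : Fin 7 → Fin 8 := fun a => if s a = r then t a else s a
  have hleafr : ∀ a, leaf a ≠ r := by
    intro a
    simp only [leaf]
    split_ifs with h
    · intro h'
      exact hst a (h.trans h'.symm)
    · exact h
  have hleafbeta : ∀ a, beta0 (leaf a) r = β a := by
    intro a
    simp only [leaf]
    split_ifs with h
    · rw [← h, beta0_symm, hbeta]
    · rcases hr a with h' | h'
      · exact absurd h'.symm h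
      · rw [h', hbeta]
  have hleafinj : Function.Injective leaf := by
    intro a a' h
    by_contra haa
    have h1 := hmeet a a' haa
    have h2 := hr a
    have h3 := hr a'
    have h4 := hst a
    have h5 := hst a'
    simp only [leaf] at h
    unfold meet1 at h1
    grind
  let g : Fin 8 → Fin 8 := fun x => Fin.lastCases (motive := fun _ => Fin 8) r leaf x
  have hgz : g z = r := Fin.lastCases_last
  have hgc : ∀ a, g a.castSucc = leaf a := fun a => Fin.lastCases_castSucc a
  have hginj : Function.Injective g := by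
    intro x y
    induction x using Fin.lastCases with
    | last =>
      induction y using Fin.lastCases with
      | last => intro _; rfl
      | cast b =>
        intro h
        rw [show g (Fin.last 7) = r from hgz, hgc] at h
        exact absurd h.symm (hleafr b)
    | cast a =>
      induction y using Fin.lastCases with
      | last =>
        intro h
        rw [show g (Fin.last 7) = r from hgz, hgc] at h
        exact absurd h (hleafr a)
      | cast b =>
        intro h
        rw [hgc, hgc] at h
        rw [hleafinj h]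
  let π : Equiv.Perm (Fin 8) := Equiv.ofBijective g (Finite.injective_iff_bijective.mp hginj)
  have hπ : ∀ x, π x = g x := fun _ => rfl
  refine ⟨π, ?_⟩
  -- the words with `t = r`
  have hbase : ∀ a, (fun p => Bw (leaf a) r (Sum.map π id p)) ∈ C := by
    intro a
    have : (fun p => Bw (leaf a) r (Sum.map π id p)) = c a + affW (α a) := by
      funext p
      cases p with
      | inl l =>
        simp only [Bw, Sum.map_inl, Sum.elim_inl, Pi.add_apply, hci, affW, add_zero]
        simp only [pairInd]
        have h1 : π l = leaf a ↔ l = a.castSucc := by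
          rw [← hgc, ← hπ]
          exact π.injective.eq_iff
        have h2 : π l = r ↔ l = z := by
          rw [← hgz, ← hπ]
          exact π.injective.eq_iff
        simp only [h1, h2]
      | inr n =>
        simp only [Bw, Sum.map_inr, id_eq, Sum.elim_inr, Pi.add_apply, hf, affW, hleafbeta]
        have := add_self (aff (α a) n)
        linear_combination -this
    rw [this]
    exact Submodule.add_mem _ (hcC a) (hAff _)
  have hleafsurj : ∀ s', s' ≠ r → ∃ a, leaf a = s' := by
    intro s' hs'
    obtain ⟨x, hx⟩ := π.surjective s'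
    rw [hπ] at hx
    induction x using Fin.lastCases with
    | last =>
      rw [show g (Fin.last 7) = r from hgz] at hx
      exact absurd hx.symm hs'
    | cast a =>
      exact ⟨a, by rw [← hgc]; exact hx⟩
  have hBw_symm : ∀ s' t', Bw s' t' = Bw t' s' := by
    intro s' t'
    funext p
    cases p with
    | inl l =>
      simp only [Bw, Sum.elim_inl, pairInd, or_comm]
    | inr n =>
      simp only [Bw, Sum.elim_inr]
      rw [beta0_symm]
  have hr1 : ∀ s', s' ≠ r → (fun p => Bw s' r (Sum.map π id p)) ∈ C := by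
    intro s' hs'
    obtain ⟨a, rfl⟩ := hleafsurj s' hs'
    exact hbase a
  intro s' t' hst'
  by_cases ht : t' = r
  · subst ht
    exact hr1 s' hst'
  by_cases hs : s' = r
  · subst hs
    rw [hBw_symm]
    exact hr1 t' (Ne.symm hst')
  have : (fun p => Bw s' t' (Sum.map π id p))
      = (fun p => Bw s' r (Sum.map π id p)) + (fun p => Bw t' r (Sum.map π id p)) := by
    funext p
    cases p with
    | inl l =>
      simp only [Bw, Sum.map_inl, Sum.elim_inl, Pi.add_apply]
      rw [pairInd_add _ _ _ _ hs ht hst']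
    | inr n =>
      simp only [Bw, Sum.map_inr, id_eq, Sum.elim_inr, Pi.add_apply]
      rw [beta0_add _ _ _ hst' hs ht, q_xor]
  rw [this]
  exact Submodule.add_mem _ (hr1 s' hs) (hr1 t' ht)

end Cfsg.Agent.Lib.GolayUnique.Star
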